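import Mathlib

set_option linter.style.haveILetI false
set_option linter.unusedVariables false
set_option linter.unusedSectionVars false
set_option autoImplicit false
set_option backward.isDefEq.respectTransparency.types false
set_option synthInstance.maxHeartbeats 400000
set_option maxHeartbeats 1600000

namespace Groth.Agent.Helper7.FinPush

open Module

universe u

/-! helper7: helper7: semilocal length formula: lengths over R_P of localized S-modules decompose over the primes of S above P -/

section LenVia

/-- the length over `A₀` of a `C`-module, through the structure map `A₀ → C` -/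
noncomputable def lenVia (A₀ C : Type*) [CommRing A₀] [CommRing C] [Algebra A₀ C]
    (M : Type*) [AddCommGroup M] [Module C M] : ℕ∞ :=
  letI := Module.compHom M (algebraMap A₀ C)
  Module.length A₀ M

variable (A₀ C : Type*) [CommRing A₀] [CommRing C] [Algebra A₀ C]

theorem lenVia_of_subsingleton (M : Type*) [AddCommGroup M] [Module C M] [Subsingleton M] :
    lenVia A₀ C M = 0 := by
  letI := Module.compHom M (algebraMap A₀ C)
  exact Module.length_eq_zero

theorem lenVia_equiv {M M' : Type*} [AddCommGroup M] [AddCommGroup M'] [Module C M] [Module C M']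
    (e : M ≃ₗ[C] M') : lenVia A₀ C M = lenVia A₀ C M' := by
  letI := Module.compHom M (algebraMap A₀ C)
  letI := Module.compHom M' (algebraMap A₀ C)
  haveI : IsScalarTower A₀ C M := IsScalarTower.of_algebraMap_smul (fun _ _ => rfl)
  haveI : IsScalarTower A₀ C M' := IsScalarTower.of_algebraMap_smul (fun _ _ => rfl)
  exact (e.restrictScalars A₀).length_eq

theorem lenVia_exact {M₁ M₂ M₃ : Type*} [AddCommGroup M₁] [AddCommGroup M₂] [AddCommGroup M₃]
    [Module C M₁] [Module C M₂] [Module C M₃] (f : M₁ →ₗ[C] M₂) (g : M₂ →ₗ[C] M₃)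
    (hf : Function.Injective f) (hg : Function.Surjective g) (hfg : Function.Exact f g) :
    lenVia A₀ C M₂ = lenVia A₀ C M₁ + lenVia A₀ C M₃ := by
  letI := Module.compHom M₁ (algebraMap A₀ C)
  letI := Module.compHom M₂ (algebraMap A₀ C)
  letI := Module.compHom M₃ (algebraMap A₀ C)
  haveI : IsScalarTower A₀ C M₁ := IsScalarTower.of_algebraMap_smul (fun _ _ => rfl)
  haveI : IsScalarTower A₀ C M₂ := IsScalarTower.of_algebraMap_smul (fun _ _ => rfl)
  haveI : IsScalarTower A₀ C M₃ := IsScalarTower.of_algebraMap_smul (fun _ _ => rfl)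
  exact Module.length_eq_add_of_exact (f.restrictScalars A₀) (g.restrictScalars A₀) hf hg hfg

theorem lenVia_eq_length (M : Type*) [AddCommGroup M] [Module C M] [inst : Module A₀ M]
    [IsScalarTower A₀ C M] : lenVia A₀ C M = Module.length A₀ M := by
  have h : (Module.compHom M (algebraMap A₀ C) : Module A₀ M) = inst := by
    apply Module.ext'
    intro r m
    exact algebraMap_smul C r m
  unfold lenVia
  rw [h]

theorem lenVia_local [IsLocalRing A₀] [IsLocalRing C] [IsLocalHom (algebraMap A₀ C)]
    (M : Type*) [AddCommGroup M] [Module C M] :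
    lenVia A₀ C M = Module.length C M *
      Module.length (IsLocalRing.ResidueField A₀) (IsLocalRing.ResidueField C) := by
  letI := Module.compHom M (algebraMap A₀ C)
  haveI : IsScalarTower A₀ C M := IsScalarTower.of_algebraMap_smul (fun _ _ => rfl)
  exact IsLocalRing.length_restrictScalars A₀ C M

/-- comparison of lengths along an isomorphism which is only linear over a common base -/
theorem lenVia_congr {R A S : Type*} [CommRing R] [CommRing A] [CommRing S] [Algebra R A]
    [Algebra R S] (W : Submonoid R) [IsLocalization W A]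
    {C₁ C₂ : Type*} [CommRing C₁] [CommRing C₂]
    [Algebra A C₁] [Algebra S C₁] [Algebra R C₁] [IsScalarTower R A C₁] [IsScalarTower R S C₁]
    [Algebra A C₂] [Algebra S C₂] [Algebra R C₂] [IsScalarTower R A C₂] [IsScalarTower R S C₂]
    {M₁ M₂ : Type*} [AddCommGroup M₁] [AddCommGroup M₂]
    [Module C₁ M₁] [Module S M₁] [IsScalarTower S C₁ M₁]
    [Module C₂ M₂] [Module S M₂] [IsScalarTower S C₂ M₂]
    (e : M₁ ≃ₗ[S] M₂) : lenVia A C₁ M₁ = lenVia A C₂ M₂ := by
  letI i1 : Module A M₁ := Module.compHom M₁ (algebraMap A C₁)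
  letI i2 : Module A M₂ := Module.compHom M₂ (algebraMap A C₂)
  have hR₁ : ∀ (r : R) (m : M₁), (algebraMap R A r) • m = (algebraMap R S r) • m := by
    intro r m
    show algebraMap A C₁ (algebraMap R A r) • m = _
    rw [← IsScalarTower.algebraMap_apply R A C₁, IsScalarTower.algebraMap_apply R S C₁,
      algebraMap_smul]
  have hR₂ : ∀ (r : R) (m : M₂), (algebraMap R A r) • m = (algebraMap R S r) • m := by
    intro r m
    show algebraMap A C₂ (algebraMap R A r) • m = _
    rw [← IsScalarTower.algebraMap_apply R A C₂, IsScalarTower.algebraMap_apply R S C₂,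
      algebraMap_smul]
  have key : ∀ (a : A) (m : M₁), e (a • m) = a • e m := by
    intro a m
    obtain ⟨⟨r, t⟩, hrt⟩ := IsLocalization.surj W a
    obtain ⟨u, hu⟩ := IsLocalization.map_units A t
    have hinj : ∀ x y : M₂, (algebraMap R A t) • x = (algebraMap R A t) • y → x = y := by
      intro x y hxy
      have h1 := congrArg (fun z => ((u⁻¹ : Aˣ) : A) • z) hxy
      simp only [smul_smul, ← hu, Units.inv_mul, one_smul] at h1
      exact h1
    apply hinj
    have h2 : algebraMap R A t * a = algebraMap R A r := by rw [mul_comm]; exact hrt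
    calc algebraMap R A t • e (a • m) = algebraMap R S t • e (a • m) := hR₂ _ _
      _ = e (algebraMap R S t • (a • m)) := (e.map_smul _ _).symm
      _ = e (algebraMap R A t • (a • m)) := by rw [hR₁]
      _ = e (algebraMap R A r • m) := by rw [smul_smul, h2]
      _ = e (algebraMap R S r • m) := by rw [hR₁]
      _ = algebraMap R S r • e m := e.map_smul _ _
      _ = algebraMap R A r • e m := (hR₂ _ _).symm
      _ = algebraMap R A t • (a • e m) := by rw [smul_smul, h2]
  let e' : M₁ ≃ₗ[A] M₂ :=
    { toFun := e
      map_add' := e.map_add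
      map_smul' := fun a m => key a m
      invFun := e.symm
      left_inv := e.left_inv
      right_inv := e.right_inv }
  exact e'.length_eq

end LenVia

section Main

variable {R S : Type u} [CommRing R] [CommRing S] [Algebra R S]

/-- the length over `R_P` of a module over `S_Q`, for `Q` over `P` -/
noncomputable def lenQ (P : Ideal R) [P.IsPrime] (Q : Ideal S) [Q.IsPrime] [Q.LiesOver P]
    (M : Type*) [AddCommGroup M] [Module (Localization.AtPrime Q) M] : ℕ∞ :=
  letI := Localization.AtPrime.algebraOfLiesOver P Q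
  lenVia (Localization.AtPrime P) (Localization.AtPrime Q) M

theorem lenQ_eq [Module.Finite R S] (P : Ideal R) [P.IsPrime] (Q : Ideal S) [Q.IsPrime]
    [Q.LiesOver P] (M : Type*) [AddCommGroup M] [Module (Localization.AtPrime Q) M] :
    lenQ P Q M = Module.length (Localization.AtPrime Q) M * (Q.inertiaDeg R : ℕ∞) := by
  letI := Localization.AtPrime.algebraOfLiesOver P Q
  have h1 : lenQ P Q M = lenVia (Localization.AtPrime P) (Localization.AtPrime Q) M := rfl
  rw [h1, lenVia_local, Ideal.inertiaDeg_eq P Q, ← Module.length_eq_finrank]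

theorem lenQ_of_subsingleton (P : Ideal R) [P.IsPrime] (Q : Ideal S) [Q.IsPrime]
    [Q.LiesOver P] (M : Type*) [AddCommGroup M] [Module (Localization.AtPrime Q) M]
    [Subsingleton M] : lenQ P Q M = 0 := by
  letI := Localization.AtPrime.algebraOfLiesOver P Q
  exact lenVia_of_subsingleton _ _ M

theorem lenQ_exact (P : Ideal R) [P.IsPrime] (Q : Ideal S) [Q.IsPrime] [Q.LiesOver P]
    {M₁ M₂ M₃ : Type*} [AddCommGroup M₁] [AddCommGroup M₂] [AddCommGroup M₃]
    [Module (Localization.AtPrime Q) M₁] [Module (Localization.AtPrime Q) M₂]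
    [Module (Localization.AtPrime Q) M₃]
    (f : M₁ →ₗ[Localization.AtPrime Q] M₂) (g : M₂ →ₗ[Localization.AtPrime Q] M₃)
    (hf : Function.Injective f) (hg : Function.Surjective g) (hfg : Function.Exact f g) :
    lenQ P Q M₂ = lenQ P Q M₁ + lenQ P Q M₃ := by
  letI := Localization.AtPrime.algebraOfLiesOver P Q
  exact lenVia_exact _ _ f g hf hg hfg

theorem loc_exact (W : Submonoid S) {N₁ N₂ N₃ : Type*} [AddCommGroup N₁] [AddCommGroup N₂]
    [AddCommGroup N₃] [Module S N₁] [Module S N₂] [Module S N₃] (f : N₁ →ₗ[S] N₂)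
    (g : N₂ →ₗ[S] N₃) (hfg : Function.Exact f g) :
    Function.Exact (LocalizedModule.map W f) (LocalizedModule.map W g) :=
  LocalizedModule.map_exact W f g hfg

theorem exists_mul_sub_mem (P : Ideal R) [P.IsPrime] (Q' : Ideal S) [Q'.IsPrime] [Q'.LiesOver P]
    [Algebra.IsIntegral R S] (s : S) (hs : s ∉ Q') :
    ∃ (c : S) (r : R), r ∉ P ∧ s * c - algebraMap R S r ∈ Q' := by
  have hlt := Ideal.comap_lt_comap_of_integral_mem_sdiff (R := R) (I := Q')
    (J := Q' ⊔ Ideal.span {s}) le_sup_left (x := s)
    ⟨Ideal.mem_sup_right (Ideal.subset_span rfl), hs⟩ (Algebra.IsIntegral.isIntegral s)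
  obtain ⟨r, hrJ, hrQ⟩ := SetLike.exists_of_lt hlt
  rw [Ideal.mem_comap] at hrJ hrQ
  obtain ⟨q, hq, z, hz, hqz⟩ := Submodule.mem_sup.mp hrJ
  obtain ⟨c, rfl⟩ := Ideal.mem_span_singleton'.mp hz
  refine ⟨c, r, ?_, ?_⟩
  · intro hrP
    apply hrQ
    have h1 : r ∈ Q'.under R := by
      rw [← Ideal.LiesOver.over (p := P) (P := Q')]
      exact hrP
    exact h1
  · have h1 : s * c - algebraMap R S r = -q := by
      rw [← hqz]
      ring
    rw [h1]
    exact Q'.neg_mem hq

theorem isLocalizedModule_mk_of_kill (P : Ideal R) [P.IsPrime] (Q' : Ideal S) [Q'.IsPrime]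
    [Q'.LiesOver P] [Algebra.IsIntegral R S] (N' : Type*) [AddCommGroup N'] [Module S N']
    (hkill : ∀ s ∈ Q', ∀ n : N', s • n = 0) :
    IsLocalizedModule Q'.primeCompl
      (LocalizedModule.mkLinearMap (Algebra.algebraMapSubmonoid S P.primeCompl) N') := by
  have hTQ : Algebra.algebraMapSubmonoid S P.primeCompl ≤ Q'.primeCompl := by
    rintro _ ⟨r, hr, rfl⟩
    intro hmem
    apply hr
    have h1 : r ∈ Q'.under R := hmem
    rw [← Ideal.LiesOver.over (p := P) (P := Q')] at h1
    exact h1
  constructor
  · rintro ⟨s, hs⟩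
    rw [Module.End.isUnit_iff]
    obtain ⟨c, r, hr, hcr⟩ := exists_mul_sub_mem P Q' s hs
    have ht : algebraMap R S r ∈ Algebra.algebraMapSubmonoid S P.primeCompl := ⟨r, hr, rfl⟩
    have hunit := IsLocalizedModule.map_units
      (LocalizedModule.mkLinearMap (Algebra.algebraMapSubmonoid S P.primeCompl) N')
      ⟨algebraMap R S r, ht⟩
    rw [Module.End.isUnit_iff] at hunit
    have hsc : ∀ m : LocalizedModule (Algebra.algebraMapSubmonoid S P.primeCompl) N',
        (s * c) • m = (algebraMap R S r) • m := by
      intro m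
      induction m using LocalizedModule.induction_on with
      | h n u =>
        rw [LocalizedModule.smul'_mk, LocalizedModule.smul'_mk]
        congr 1
        have h1 := hkill _ hcr n
        rw [sub_smul, sub_eq_zero] at h1
        exact h1
    constructor
    · intro m₁ m₂ h12
      simp only [Module.algebraMap_end_apply] at h12
      apply hunit.1
      simp only [Module.algebraMap_end_apply]
      rw [← hsc, ← hsc, mul_comm, mul_smul, mul_smul, h12]
    · intro m
      obtain ⟨m', hm'⟩ := hunit.2 m
      simp only [Module.algebraMap_end_apply] at hm'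
      refine ⟨c • m', ?_⟩
      simp only [Module.algebraMap_end_apply]
      rw [← mul_smul, hsc]
      exact hm'
  · intro y
    obtain ⟨⟨n, t⟩, h⟩ := IsLocalizedModule.surj (Algebra.algebraMapSubmonoid S P.primeCompl)
      (LocalizedModule.mkLinearMap (Algebra.algebraMapSubmonoid S P.primeCompl) N') y
    exact ⟨⟨n, ⟨t.1, hTQ t.2⟩⟩, h⟩
  · intro x₁ x₂ h
    obtain ⟨c, hc⟩ := IsLocalizedModule.exists_of_eq
      (S := Algebra.algebraMapSubmonoid S P.primeCompl) h
    exact ⟨⟨c.1, hTQ c.2⟩, hc⟩

theorem length_sum_aux [IsDomain R] [Module.Finite R S] [IsNoetherianRing S]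
    (P : Ideal R) [P.IsPrime]
    (hP : ∀ p : Ideal R, p.IsPrime → p ≠ ⊥ → p ≤ P → p = P) [Fintype (P.primesOver S)]
    (N : Type u) [AddCommGroup N] [Module S N] [hN : Module.Finite S N] :
    (∃ a : R, a ≠ 0 ∧ ∀ n : N, algebraMap R S a • n = 0) →
    lenVia (Localization.AtPrime P) (Localization (Algebra.algebraMapSubmonoid S P.primeCompl))
        (LocalizedModule (Algebra.algebraMapSubmonoid S P.primeCompl) N) =
      ∑ Q : P.primesOver S, lenQ P Q.1 (LocalizedModule Q.1.primeCompl N) := by
  induction hN using IsNoetherianRing.induction_on_isQuotientEquivQuotientPrime S with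
  | subsingleton N' =>
    intro _
    rw [lenVia_of_subsingleton]
    symm
    apply Finset.sum_eq_zero
    intro Q _
    exact lenQ_of_subsingleton P Q.1 _
  | quotient N' Q' e =>
    rintro ⟨a, ha, haN⟩
    haveI hQ'p : Q'.asIdeal.IsPrime := Q'.2
    have hkill : ∀ s ∈ Q'.asIdeal, ∀ n : N', s • n = 0 := by
      intro s hs n
      apply e.injective
      have h1 : algebraMap S (S ⧸ Q'.asIdeal) s = 0 := Ideal.Quotient.eq_zero_iff_mem.mpr hs
      rw [map_smul, map_zero, Algebra.smul_def, h1, zero_mul]
    have haQ : algebraMap R S a ∈ Q'.asIdeal := by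
      have h1 := haN (e.symm 1)
      have h2 := congrArg e h1
      rw [map_smul, e.apply_symm_apply, map_zero, Algebra.smul_def, mul_one] at h2
      exact Ideal.Quotient.eq_zero_iff_mem.mp h2
    by_cases hle : Q'.asIdeal.under R ≤ P
    · have hne : Q'.asIdeal.under R ≠ ⊥ := by
        intro h0
        apply ha
        have h1 : a ∈ Q'.asIdeal.under R := haQ
        rw [h0] at h1
        exact h1
      have hund : Q'.asIdeal.under R = P := hP _ (Ideal.comap_isPrime _ _) hne hle
      haveI hlo : Q'.asIdeal.LiesOver P := ⟨hund.symm⟩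
      haveI : Algebra.IsIntegral R S := Algebra.IsIntegral.of_finite R S
      haveI hloc := isLocalizedModule_mk_of_kill P Q'.asIdeal N' hkill
      let Q₀ : P.primesOver S := ⟨Q'.asIdeal, hQ'p, hlo⟩
      rw [Finset.sum_eq_single Q₀]
      · letI := Localization.AtPrime.algebraOfLiesOver P Q'.asIdeal
        have h1 : lenQ P Q₀.1 (LocalizedModule Q₀.1.primeCompl N') =
            lenVia (Localization.AtPrime P) (Localization.AtPrime Q'.asIdeal)
              (LocalizedModule Q'.asIdeal.primeCompl N') := rfl
        rw [h1]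
        exact (lenVia_congr (R := R) (A := Localization.AtPrime P) (S := S) P.primeCompl
          (IsLocalizedModule.iso Q'.asIdeal.primeCompl
            (LocalizedModule.mkLinearMap (Algebra.algebraMapSubmonoid S P.primeCompl) N'))).symm
      · intro Q _ hQne
        have hnle : ¬ Q'.asIdeal ≤ Q.1 := by
          intro hle'
          apply hQne
          have h2 : Q'.asIdeal.under R = Q.1.under R := by
            rw [hund]
            exact Ideal.LiesOver.over (p := P) (P := Q.1)
          have h3 := Algebra.QuasiFinite.eq_of_le_of_under_eq (R := R) Q'.asIdeal Q.1 hle' h2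
          exact Subtype.ext h3.symm
        obtain ⟨s, hsQ', hsQ⟩ := SetLike.not_le_iff_exists.mp hnle
        haveI : Subsingleton (LocalizedModule Q.1.primeCompl N') :=
          LocalizedModule.subsingleton_iff.mpr (fun m => ⟨s, hsQ, hkill s hsQ' m⟩)
        exact lenQ_of_subsingleton P Q.1 _
      · intro h
        exact absurd (Finset.mem_univ _) h
    · obtain ⟨r, hrQ, hrP⟩ := SetLike.not_le_iff_exists.mp hle
      have hrQ' : algebraMap R S r ∈ Q'.asIdeal := hrQ
      haveI : Subsingleton (LocalizedModule (Algebra.algebraMapSubmonoid S P.primeCompl) N') :=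
        LocalizedModule.subsingleton_iff.mpr
          (fun m => ⟨algebraMap R S r, ⟨r, hrP, rfl⟩, hkill _ hrQ' m⟩)
      rw [lenVia_of_subsingleton]
      symm
      apply Finset.sum_eq_zero
      intro Q _
      have hrQ'' : algebraMap R S r ∉ Q.1 := by
        intro hmem
        apply hrP
        have h1 : r ∈ Q.1.under R := hmem
        rw [← Ideal.LiesOver.over (p := P) (P := Q.1)] at h1
        exact h1
      haveI : Subsingleton (LocalizedModule Q.1.primeCompl N') :=
        LocalizedModule.subsingleton_iff.mpr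
          (fun m => ⟨algebraMap R S r, hrQ'', hkill _ hrQ' m⟩)
      exact lenQ_of_subsingleton P Q.1 _
  | exact N₁ N₂ N₃ f g hf hg hfg h₁ h₃ =>
    rintro ⟨a, ha, haN⟩
    have hN₁ : ∃ a : R, a ≠ 0 ∧ ∀ n : N₁, algebraMap R S a • n = 0 :=
      ⟨a, ha, fun n => hf (by rw [map_smul, haN, map_zero])⟩
    have hN₃ : ∃ a : R, a ≠ 0 ∧ ∀ n : N₃, algebraMap R S a • n = 0 :=
      ⟨a, ha, fun n => by
        obtain ⟨m, rfl⟩ := hg n
        rw [← map_smul, haN, map_zero]⟩
    rw [lenVia_exact _ _ (LocalizedModule.map (Algebra.algebraMapSubmonoid S P.primeCompl) f)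
      (LocalizedModule.map (Algebra.algebraMapSubmonoid S P.primeCompl) g)
      (LocalizedModule.map_injective _ f hf) (LocalizedModule.map_surjective _ g hg)
      (loc_exact _ f g hfg), h₁ hN₁, h₃ hN₃, ← Finset.sum_add_distrib]
    apply Finset.sum_congr rfl
    intro Q _
    exact (lenQ_exact P Q.1 (LocalizedModule.map Q.1.primeCompl f)
      (LocalizedModule.map Q.1.primeCompl g) (LocalizedModule.map_injective _ f hf)
      (LocalizedModule.map_surjective _ g hg) (loc_exact _ f g hfg)).symm

theorem nonempty_locQuotEquiv (W : Submonoid S) (b : S) :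
    Nonempty (LocalizedModule W (S ⧸ Ideal.span {b}) ≃ₗ[Localization W]
      (Localization W ⧸ Ideal.span {algebraMap S (Localization W) b})) := by
  have hmap : Submodule.localized' (Localization W) W (Algebra.linearMap S (Localization W))
      (Ideal.span {b}) = Ideal.span {algebraMap S (Localization W) b} := by
    rw [Ideal.localized'_eq_map, Ideal.map_span, Set.image_singleton]
  let e₁ := IsLocalizedModule.linearEquiv W (LocalizedModule.mkLinearMap W (S ⧸ Ideal.span {b}))
    (Submodule.toLocalizedQuotient' (Localization W) W (Algebra.linearMap S (Localization W))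
      (Ideal.span {b}))
  let e₂ := Submodule.quotEquivOfEq _ _ hmap
  exact ⟨(e₁.restrictScalars (Localization W)).trans e₂⟩

/-- the semilocal length formula for a principal ideal -/
theorem length_sum [IsDomain R] [Module.Finite R S] [IsNoetherianRing S] (P : Ideal R)
    [P.IsPrime] (hP : ∀ p : Ideal R, p.IsPrime → p ≠ ⊥ → p ≤ P → p = P)
    [Fintype (P.primesOver S)] (b : S) (a : R) (ha : a ≠ 0) (hab : b ∣ algebraMap R S a) :
    Module.length (Localization.AtPrime P)
        (Localization (Algebra.algebraMapSubmonoid S P.primeCompl) ⧸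
          Ideal.span {algebraMap S (Localization (Algebra.algebraMapSubmonoid S P.primeCompl)) b}) =
      ∑ Q : P.primesOver S,
        Module.length (Localization.AtPrime Q.1)
          (Localization.AtPrime Q.1 ⧸ Ideal.span {algebraMap S (Localization.AtPrime Q.1) b}) *
        (Q.1.inertiaDeg R : ℕ∞) := by
  have hkill : ∀ n : S ⧸ Ideal.span {b}, algebraMap R S a • n = 0 := by
    intro n
    have h1 : algebraMap S (S ⧸ Ideal.span {b}) (algebraMap R S a) = 0 :=
      Ideal.Quotient.eq_zero_iff_mem.mpr (Ideal.mem_span_singleton.mpr hab)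
    rw [Algebra.smul_def, h1, zero_mul]
  have haux := length_sum_aux P hP (S ⧸ Ideal.span {b}) ⟨a, ha, hkill⟩
  obtain ⟨eT⟩ := nonempty_locQuotEquiv (Algebra.algebraMapSubmonoid S P.primeCompl) b
  rw [← lenVia_eq_length (Localization.AtPrime P)
    (Localization (Algebra.algebraMapSubmonoid S P.primeCompl)),
    ← lenVia_equiv _ _ eT, haux]
  apply Finset.sum_congr rfl
  intro Q _
  obtain ⟨eQ⟩ := nonempty_locQuotEquiv Q.1.primeCompl b
  rw [lenQ_eq, eQ.length_eq]

end Main

end Groth.Agent.Helper7.FinPush
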