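import Mathlib
import Groth.Prelude.Def_Tame
import Groth.Agent.Lib.Helper6.LatDist.LDc
import Groth.Agent.Lib.Helper7.FinPush.Alg

set_option linter.style.haveILetI false
set_option linter.unusedVariables false
set_option linter.unusedSectionVars false
set_option autoImplicit false
set_option backward.isDefEq.respectTransparency.types false
set_option synthInstance.maxHeartbeats 400000
set_option maxHeartbeats 1600000

namespace Groth.Agent.Helper7.FinPush

open Module

universe u

/-! helper7: order of the norm of an element of a finite extension as the sum over the primes above P of length times inertia degree -/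

section Norm

variable {R S : Type u} [CommRing R] [CommRing S] [IsDomain R] [IsDomain S] [Algebra R S]

theorem krullDimLE_one_atPrime (P : Ideal R) [P.IsPrime]
    (hP : ∀ p : Ideal R, p.IsPrime → p ≠ ⊥ → p ≤ P → p = P) :
    Ring.KrullDimLE 1 (Localization.AtPrime P) := by
  rw [Ring.krullDimLE_one_iff_of_noZeroDivisors]
  intro I hI0 hIp
  have hJp : (I.under R).IsPrime := Ideal.comap_isPrime _ _
  have hJle : I.under R ≤ P := by
    have h1 : I ≤ IsLocalRing.maximalIdeal (Localization.AtPrime P) :=
      IsLocalRing.le_maximalIdeal hIp.ne_top
    have h2 : I.under R ≤ (IsLocalRing.maximalIdeal (Localization.AtPrime P)).under R :=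
      Ideal.comap_mono h1
    rw [IsLocalization.AtPrime.under_maximalIdeal (Localization.AtPrime P) P] at h2
    exact h2
  have h3 := IsLocalization.map_under P.primeCompl (Localization.AtPrime P) I
  have hJne : I.under R ≠ ⊥ := by
    intro h0
    apply hI0
    rw [h0, Ideal.map_bot] at h3
    exact h3.symm
  have hJ := hP _ hJp hJne hJle
  rw [hJ, IsLocalization.AtPrime.map_eq_maximalIdeal P (Localization.AtPrime P)] at h3
  rw [← h3]
  exact IsLocalRing.maximalIdeal.isMaximal _

/-- the order of the norm as a sum over the primes above `P` -/
theorem ordFrac_norm_eq_sum [Module.Finite R S] [IsNoetherianRing R]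
    (hinj : Function.Injective (algebraMap R S))
    (P : Ideal R) [P.IsPrime] (hP : ∀ p : Ideal R, p.IsPrime → p ≠ ⊥ → p ≤ P → p = P)
    [Fintype (P.primesOver S)]
    (K L : Type u) [Field K] [Field L] [Algebra R K] [IsFractionRing R K] [Algebra S L]
    [IsFractionRing S L] [Algebra K L] [Algebra R L] [IsScalarTower R S L] [IsScalarTower R K L]
    [Algebra (Localization.AtPrime P) K] [IsScalarTower R (Localization.AtPrime P) K]
    (b : S) (hb : b ≠ 0) :
    CycAlg.ordFrac (Localization.AtPrime P) K (Algebra.norm K (algebraMap S L b)) =
      ∑ Q : P.primesOver S,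
        ((Module.length (Localization.AtPrime Q.1) (Localization.AtPrime Q.1 ⧸
          Ideal.span {algebraMap S (Localization.AtPrime Q.1) b})).toNat : ℤ) *
        (Q.1.inertiaDeg R : ℤ) := by
  classical
  haveI : FaithfulSMul R S := (faithfulSMul_iff_algebraMap_injective R S).mpr hinj
  haveI : IsNoetherianRing S :=
    isNoetherian_of_tower R (isNoetherian_of_isNoetherianRing_of_finite R S)
  haveI : Algebra.IsIntegral R S := Algebra.IsIntegral.of_finite R S
  haveI hdim := krullDimLE_one_atPrime P hP
  have hTle : Algebra.algebraMapSubmonoid S P.primeCompl ≤ nonZeroDivisors S :=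
    map_le_nonZeroDivisors_of_injective _ hinj P.primeCompl_le_nonZeroDivisors
  have hunits : ∀ t : Algebra.algebraMapSubmonoid S P.primeCompl, IsUnit (algebraMap S L t) :=
    fun t => IsLocalization.map_units L ⟨t.1, hTle t.2⟩
  letI algBL : Algebra (Localization (Algebra.algebraMapSubmonoid S P.primeCompl)) L :=
    (IsLocalization.lift (M := Algebra.algebraMapSubmonoid S P.primeCompl) hunits).toAlgebra
  haveI : IsScalarTower S (Localization (Algebra.algebraMapSubmonoid S P.primeCompl)) L :=
    IsScalarTower.of_algebraMap_eq (fun x => (IsLocalization.lift_eq hunits x).symm)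
  haveI : IsFractionRing (Localization (Algebra.algebraMapSubmonoid S P.primeCompl)) L :=
    IsFractionRing.isFractionRing_of_isDomain_of_isLocalization
      (Algebra.algebraMapSubmonoid S P.primeCompl) _ L
  haveI : IsFractionRing (Localization.AtPrime P) K :=
    IsFractionRing.isFractionRing_of_isDomain_of_isLocalization P.primeCompl
      (Localization.AtPrime P) K
  letI algAL : Algebra (Localization.AtPrime P) L :=
    ((algebraMap K L).comp (algebraMap (Localization.AtPrime P) K)).toAlgebra
  haveI : IsScalarTower (Localization.AtPrime P) K L :=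
    IsScalarTower.of_algebraMap_eq (fun x => rfl)
  haveI : IsScalarTower (Localization.AtPrime P)
      (Localization (Algebra.algebraMapSubmonoid S P.primeCompl)) L := by
    apply IsScalarTower.of_algebraMap_eq'
    apply IsLocalization.ringHom_ext P.primeCompl
    ext r
    show algebraMap K L (algebraMap (Localization.AtPrime P) K
        (algebraMap R (Localization.AtPrime P) r)) =
      algebraMap (Localization (Algebra.algebraMapSubmonoid S P.primeCompl)) L
        (algebraMap (Localization.AtPrime P)
          (Localization (Algebra.algebraMapSubmonoid S P.primeCompl))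
          (algebraMap R (Localization.AtPrime P) r))
    rw [← IsScalarTower.algebraMap_apply R (Localization.AtPrime P) K,
      ← IsScalarTower.algebraMap_apply R K L,
      ← IsScalarTower.algebraMap_apply R (Localization.AtPrime P)
        (Localization (Algebra.algebraMapSubmonoid S P.primeCompl)),
      IsScalarTower.algebraMap_apply R S (Localization (Algebra.algebraMapSubmonoid S P.primeCompl)),
      ← IsScalarTower.algebraMap_apply S (Localization (Algebra.algebraMapSubmonoid S P.primeCompl)) L,
      ← IsScalarTower.algebraMap_apply R S L]
  haveI : FiniteDimensional K L :=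
    Module.Finite.of_isLocalization R S (Rₚ := K) (Sₚ := L) (nonZeroDivisors R)
  have hb' : algebraMap S (Localization (Algebra.algebraMapSubmonoid S P.primeCompl)) b ≠ 0 := by
    intro h0
    apply hb
    exact IsLocalization.injective (Localization (Algebra.algebraMapSubmonoid S P.primeCompl))
      hTle (h0.trans (map_zero _).symm)
  have h6 := Groth.Agent.Lib.Helper6.LatDist.length_quotient_span_eq_ordFrac_norm
    (A := Localization.AtPrime P)
    (B := Localization (Algebra.algebraMapSubmonoid S P.primeCompl)) (K := K) (L := L)
    (algebraMap S (Localization (Algebra.algebraMapSubmonoid S P.primeCompl)) b) hb'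
  rw [← IsScalarTower.algebraMap_apply S
    (Localization (Algebra.algebraMapSubmonoid S P.primeCompl)) L] at h6
  obtain ⟨a, ha, hab⟩ := (Algebra.IsIntegral.isIntegral (R := R) b).isAlgebraic.exists_nonzero_dvd
    (mem_nonZeroDivisors_of_ne_zero hb)
  have hsum := length_sum P hP b a ha hab
  rw [← h6.2]
  have hne : ∀ Q ∈ (Finset.univ : Finset (P.primesOver S)),
      Module.length (Localization.AtPrime Q.1) (Localization.AtPrime Q.1 ⧸
          Ideal.span {algebraMap S (Localization.AtPrime Q.1) b}) *
        (Q.1.inertiaDeg R : ℕ∞) ≠ ⊤ := ENat.sum_ne_top.1 (hsum ▸ h6.1)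
  rw [hsum, ENat.toNat_sum hne, Nat.cast_sum]
  refine Finset.sum_congr rfl (fun Q _ => ?_)
  rw [ENat.toNat_mul, Nat.cast_mul, ENat.toNat_natCast]

end Norm

end Groth.Agent.Helper7.FinPush
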