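import Mathlib
import Groth.Prelude.Def_Cyc
import Groth.Agent.Lib.Helper7.FinPush.Norm
import Groth.Agent.Lib.Helper7.FinDeg.Chart
import Groth.Agent.Lib.Helper7.KL.Stalk
import Groth.Agent.Lib.Helper7.DivFin.SecGen

set_option linter.style.haveILetI false
set_option linter.unusedVariables false
set_option linter.unusedSectionVars false
set_option autoImplicit false
set_option backward.isDefEq.respectTransparency.types false
set_option synthInstance.maxHeartbeats 400000
set_option maxHeartbeats 1600000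

namespace Groth.Agent.Helper7.FinPush

open CategoryTheory CategoryTheory.Limits AlgebraicGeometry IsLocalRing TopologicalSpace Opposite
open Groth.Agent.Helper7.DivFin Groth.Agent.Helper7.KL Groth.Agent.Helper7.Spz

universe u

/-! helper7: local formula on a finite chart: the sum over the fibre of orders times residue degrees equals the order of the norm -/

section Generic

variable {X : Scheme.{u}} [IsIntegral X]

theorem residue_injective_of_generic (ξ : X) (hξ : ξ = genericPoint X) :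
    Function.Injective (X.residue ξ).hom := by
  subst hξ
  letI : Field (X.presheaf.stalk (genericPoint X)) := inferInstanceAs (Field X.functionField)
  exact RingHom.injective _

theorem sec_injective {U : X.Opens} (ξ : X) (hξ : ξ = genericPoint X) (hξU : ξ ∈ U) :
    Function.Injective
      (fun t : Γ(X, U) => (X.residue ξ).hom ((X.presheaf.germ U ξ hξU).hom t)) := by
  intro a b hab
  have h1 := residue_injective_of_generic ξ hξ hab
  exact germ_injective_of_isIntegral X ξ hξU h1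

theorem specMap_injective_of_generic (x ξ : X) (h : ξ ⤳ x) (hξ : ξ = genericPoint X) :
    Function.Injective (Cyc.specMap x ξ h) := by
  have h2 := residue_injective_of_generic ξ hξ
  subst hξ
  have h1 : Function.Injective (X.presheaf.stalkSpecializes h).hom :=
    IsFractionRing.injective (X.presheaf.stalk x) X.functionField
  intro a b hab
  apply h1
  apply h2
  exact hab

theorem primeIdealOf_eq_bot_of_generic {U : X.Opens} (hU : IsAffineOpen U) (ξ : X)
    (hξ : ξ = genericPoint X) (hξU : ξ ∈ U) : (hU.primeIdealOf ⟨ξ, hξU⟩).asIdeal = ⊥ := by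
  rw [eq_bot_iff]
  intro t ht
  rw [← residue_germ_eq_zero_iff hU ⟨ξ, hξU⟩ t] at ht
  rw [Ideal.mem_bot]
  have h0 : (X.residue ξ).hom ((X.presheaf.germ U ξ hξU).hom (0 : Γ(X, U))) = 0 := by
    rw [map_zero, map_zero]
  exact sec_injective ξ hξ hξU (ht.trans h0.symm)

theorem isFractionRing_sections {U : X.Opens} (hU : IsAffineOpen U) (ξ : X)
    (hξ : ξ = genericPoint X) (hξU : ξ ∈ U) :
    @IsFractionRing Γ(X, U) _ (X.residueField ξ) _
      ((X.residue ξ).hom.comp (X.presheaf.germ U ξ hξU).hom).toAlgebra := by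
  letI : Algebra Γ(X, U) (X.residueField ξ) :=
    ((X.residue ξ).hom.comp (X.presheaf.germ U ξ hξU).hom).toAlgebra
  haveI : Nonempty U := ⟨⟨ξ, hξU⟩⟩
  have hinj : Function.Injective (algebraMap Γ(X, U) (X.residueField ξ)) :=
    sec_injective ξ hξ hξU
  rw [IsFractionRing, isLocalization_iff]
  refine ⟨?_, ?_, ?_⟩
  · rintro ⟨x, hx⟩
    have hx0 : x ≠ 0 := nonZeroDivisors.ne_zero hx
    exact isUnit_iff_ne_zero.2 (fun h0 => hx0 (hinj (by rw [h0, map_zero])))
  · intro g
    by_cases hg : g = 0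
    · refine ⟨(0, 1), ?_⟩
      rw [hg, zero_mul, map_zero]
    · obtain ⟨a, s, ha, hs, hev⟩ := exists_frac hU ⟨ξ, hξU⟩ g hg
      have hs0 : s ≠ 0 := fun h0 => hs (h0 ▸ zero_mem _)
      exact ⟨(a, ⟨s, mem_nonZeroDivisors_of_ne_zero hs0⟩), hev⟩
  · intro x x' hxx
    exact ⟨1, by rw [hinj hxx]⟩

theorem height_one_of_imm {V : X.Opens} (hV : IsAffineOpen V) (y ξ : X) (hy : y ∈ V)
    (hξ : ξ = genericPoint X)
    (himm : ∀ ζ : X, ξ ⤳ ζ → ζ ⤳ y → ζ = ξ ∨ ζ = y) :
    ∀ q : Ideal Γ(X, V), q.IsPrime → q ≠ ⊥ → q ≤ (hV.primeIdealOf ⟨y, hy⟩).asIdeal →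
      q = (hV.primeIdealOf ⟨y, hy⟩).asIdeal := by
  intro q hq hq0 hqle
  obtain ⟨z, hz, hzq⟩ := Groth.Agent.Helper7.FinDeg.exists_primeIdealOf_eq hV ⟨q, hq⟩
  have hzq' : (hV.primeIdealOf ⟨z, hz⟩).asIdeal = q := congrArg PrimeSpectrum.asIdeal hzq
  have h1 : z ⤳ y := (primeIdealOf_le_iff hV ⟨z, hz⟩ ⟨y, hy⟩).mp (by rw [hzq']; exact hqle)
  have h2 : ξ ⤳ z := by
    rw [hξ]
    exact genericPoint_specializes z
  rcases himm z h2 h1 with h3 | h3
  · exfalso
    apply hq0
    rw [← hzq']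
    exact primeIdealOf_eq_bot_of_generic hV z (h3.trans hξ) hz
  · subst h3
    exact hzq'.symm

theorem ord_germ_eq_length {U : X.Opens} (hU : IsAffineOpen U) (x ξ : X) (hx : x ∈ U)
    (h : ξ ⤳ x) (hξ : ξ = genericPoint X) (b : Γ(X, U)) :
    Ring.ord (Cyc.LocQuot x ξ h)
        (Ideal.Quotient.mk (RingHom.ker (Cyc.specMap x ξ h)) ((X.presheaf.germ U x hx).hom b)) =
      Module.length (Localization.AtPrime (hU.primeIdealOf ⟨x, hx⟩).asIdeal)
        (Localization.AtPrime (hU.primeIdealOf ⟨x, hx⟩).asIdeal ⧸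
          Ideal.span {algebraMap Γ(X, U)
            (Localization.AtPrime (hU.primeIdealOf ⟨x, hx⟩).asIdeal) b}) := by
  letI : Algebra Γ(X, U) (X.presheaf.stalk x) := (X.presheaf.germ U x hx).hom.toAlgebra
  haveI : IsLocalization.AtPrime (X.presheaf.stalk x) (hU.primeIdealOf ⟨x, hx⟩).asIdeal :=
    hU.isLocalization_stalk ⟨x, hx⟩
  let σ := IsLocalization.algEquiv (hU.primeIdealOf ⟨x, hx⟩).asIdeal.primeCompl
    (Localization.AtPrime (hU.primeIdealOf ⟨x, hx⟩).asIdeal) (X.presheaf.stalk x)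
  let ψ : Localization.AtPrime (hU.primeIdealOf ⟨x, hx⟩).asIdeal →+* Cyc.LocQuot x ξ h :=
    (Ideal.Quotient.mk (RingHom.ker (Cyc.specMap x ξ h))).comp σ.toRingEquiv.toRingHom
  have hψs : Function.Surjective ψ := Ideal.Quotient.mk_surjective.comp σ.surjective
  have hmkinj : Function.Injective (Ideal.Quotient.mk (RingHom.ker (Cyc.specMap x ξ h))) := by
    rw [injective_iff_map_eq_zero]
    intro a ha
    rw [Ideal.Quotient.eq_zero_iff_mem, RingHom.mem_ker] at ha
    exact (map_eq_zero_iff _ (specMap_injective_of_generic x ξ h hξ)).mp ha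
  have hψi : Function.Injective ψ := hmkinj.comp σ.injective
  have hker : RingHom.ker ψ ≤ Ideal.span {algebraMap Γ(X, U)
      (Localization.AtPrime (hU.primeIdealOf ⟨x, hx⟩).asIdeal) b} := by
    rw [(RingHom.injective_iff_ker_eq_bot ψ).mp hψi]
    exact bot_le
  have hlen := length_quot_map_of_surj ψ hψs _ hker
  have hb : ψ (algebraMap Γ(X, U) (Localization.AtPrime (hU.primeIdealOf ⟨x, hx⟩).asIdeal) b) =
      Ideal.Quotient.mk (RingHom.ker (Cyc.specMap x ξ h)) ((X.presheaf.germ U x hx).hom b) := by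
    show Ideal.Quotient.mk _ (σ (algebraMap Γ(X, U) _ b)) = _
    rw [σ.commutes]
    rfl
  rw [Ideal.map_span, Set.image_singleton, hb] at hlen
  exact hlen

theorem ordAt_section [IsLocallyNoetherian X] {U : X.Opens} (hU : IsAffineOpen U) (x ξ : X)
    (hx : x ∈ U) (h : ξ ⤳ x) (hξ : ξ = genericPoint X)
    (himm : ∀ ζ : X, ξ ⤳ ζ → ζ ⤳ x → ζ = ξ ∨ ζ = x) (b : Γ(X, U)) (hb : b ≠ 0) :
    Cyc.ordAt x ξ h ((X.residue ξ).hom
        ((X.presheaf.germ U ξ (h.mem_open U.isOpen hx)).hom b)) =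
      ((Module.length (Localization.AtPrime (hU.primeIdealOf ⟨x, hx⟩).asIdeal)
        (Localization.AtPrime (hU.primeIdealOf ⟨x, hx⟩).asIdeal ⧸
          Ideal.span {algebraMap Γ(X, U)
            (Localization.AtPrime (hU.primeIdealOf ⟨x, hx⟩).asIdeal) b})).toNat : ℤ) := by
  have h1 := specMap_germ x ξ h U hx b
  have hne : Cyc.specMap x ξ h ((X.presheaf.germ U x hx).hom b) ≠ 0 := by
    rw [h1]
    intro h0
    apply hb
    have h00 : (X.residue ξ).hom ((X.presheaf.germ U ξ (h.mem_open U.isOpen hx)).hom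
        (0 : Γ(X, U))) = 0 := by rw [map_zero, map_zero]
    exact sec_injective ξ hξ (h.mem_open U.isOpen hx) (h0.trans h00.symm)
  have h2 := ordAt_specMap_eq x ξ h himm ((X.presheaf.germ U x hx).hom b) hne
  rw [h1] at h2
  rw [h2, ord_germ_eq_length hU x ξ hx h hξ b]

end Generic

section Local

variable {X Y : Scheme.{u}} [IsIntegral X] [IsIntegral Y] [IsLocallyNoetherian X]
  [IsLocallyNoetherian Y]

/-- the local formula: on a finite chart, the sum over the fibre of orders times residue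
degrees is the order of the norm -/
theorem local_formula (p : X ⟶ Y) (hdom : p (genericPoint X) = genericPoint Y)
    {V : Y.Opens} (hV : IsAffineOpen V) (hU : IsAffineOpen (p ⁻¹ᵁ V))
    (hfin : (p.appLE V (p ⁻¹ᵁ V) le_rfl).hom.Finite)
    (y : Y) (hy : y ∈ V)
    (hsp : ∀ x : X, genericPoint X ⤳ x)
    (h' : p (genericPoint X) ⤳ y)
    (himmY : ∀ ζ : Y, p (genericPoint X) ⤳ ζ → ζ ⤳ y → ζ = p (genericPoint X) ∨ ζ = y)
    (himmX : ∀ x : X, p x = y → ∀ ζ : X, genericPoint X ⤳ ζ → ζ ⤳ x →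
      ζ = genericPoint X ∨ ζ = x)
    (f : X.residueField (genericPoint X)) (hf : f ≠ 0) :
    ∑ᶠ x : ↥(p ⁻¹' {y}), Cyc.ordAt x.1 (genericPoint X) (hsp x.1) f *
        (p.residueDegree x.1 : ℤ) =
      Cyc.ordAt y (p (genericPoint X)) h' (Cyc.normGen p (genericPoint X) f) := by
  classical
  have hηV : p (genericPoint X) ∈ V := h'.mem_open V.isOpen hy
  have hηU : genericPoint X ∈ p ⁻¹ᵁ V := hηV
  haveI neV : Nonempty V := ⟨⟨y, hy⟩⟩
  haveI neU : Nonempty (p ⁻¹ᵁ V) := ⟨⟨genericPoint X, hηU⟩⟩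
  haveI domR : IsDomain Γ(Y, V) := IsIntegral.component_integral V
  haveI domS : IsDomain Γ(X, p ⁻¹ᵁ V) := IsIntegral.component_integral (p ⁻¹ᵁ V)
  letI algRS : Algebra Γ(Y, V) Γ(X, p ⁻¹ᵁ V) := (p.appLE V (p ⁻¹ᵁ V) le_rfl).hom.toAlgebra
  have halg : algebraMap Γ(Y, V) Γ(X, p ⁻¹ᵁ V) = (p.appLE V (p ⁻¹ᵁ V) le_rfl).hom := rfl
  haveI hfinM : Module.Finite Γ(Y, V) Γ(X, p ⁻¹ᵁ V) := hfin
  haveI : IsNoetherianRing Γ(Y, V) := IsLocallyNoetherian.component_noetherian ⟨V, hV⟩
  letI algRK : Algebra Γ(Y, V) (Y.residueField (p (genericPoint X))) :=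
    ((Y.residue (p (genericPoint X))).hom.comp
      (Y.presheaf.germ V (p (genericPoint X)) hηV).hom).toAlgebra
  letI algSL : Algebra Γ(X, p ⁻¹ᵁ V) (X.residueField (genericPoint X)) :=
    ((X.residue (genericPoint X)).hom.comp
      (X.presheaf.germ (p ⁻¹ᵁ V) (genericPoint X) hηU).hom).toAlgebra
  letI algKL : Algebra (Y.residueField (p (genericPoint X))) (X.residueField (genericPoint X)) :=
    (p.residueFieldMap (genericPoint X)).hom.toAlgebra
  letI algRL : Algebra Γ(Y, V) (X.residueField (genericPoint X)) :=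
    ((algebraMap Γ(X, p ⁻¹ᵁ V) (X.residueField (genericPoint X))).comp
      (algebraMap Γ(Y, V) Γ(X, p ⁻¹ᵁ V))).toAlgebra
  haveI tw1 : IsScalarTower Γ(Y, V) Γ(X, p ⁻¹ᵁ V) (X.residueField (genericPoint X)) :=
    IsScalarTower.of_algebraMap_eq (fun r => rfl)
  haveI tw2 : IsScalarTower Γ(Y, V) (Y.residueField (p (genericPoint X)))
      (X.residueField (genericPoint X)) := by
    apply IsScalarTower.of_algebraMap_eq
    intro r
    show (X.residue (genericPoint X)).hom ((X.presheaf.germ (p ⁻¹ᵁ V) (genericPoint X) hηU).hom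
        ((p.appLE V (p ⁻¹ᵁ V) le_rfl).hom r)) =
      (p.residueFieldMap (genericPoint X)).hom ((Y.residue (p (genericPoint X))).hom
        ((Y.presheaf.germ V (p (genericPoint X)) hηV).hom r))
    rw [Groth.Agent.Helper7.FinDeg.germ_appLE p le_rfl (genericPoint X) hηU r]
    have h2 := DFunLike.congr_fun (CommRingCat.hom_ext_iff.mp
      (Scheme.residue_residueFieldMap p (genericPoint X)))
      ((Y.presheaf.germ V (p (genericPoint X)) hηV).hom r)
    simp only [CommRingCat.hom_comp, RingHom.comp_apply] at h2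
    exact h2.symm
  have hinjRK : Function.Injective
      (algebraMap Γ(Y, V) (Y.residueField (p (genericPoint X)))) :=
    sec_injective (p (genericPoint X)) hdom hηV
  have hinj : Function.Injective (algebraMap Γ(Y, V) Γ(X, p ⁻¹ᵁ V)) := by
    intro r r' hrr
    have h1 : algebraMap Γ(Y, V) (X.residueField (genericPoint X)) r =
        algebraMap Γ(Y, V) (X.residueField (genericPoint X)) r' := by
      rw [IsScalarTower.algebraMap_apply Γ(Y, V) Γ(X, p ⁻¹ᵁ V) (X.residueField (genericPoint X)),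
        hrr, ← IsScalarTower.algebraMap_apply]
    rw [IsScalarTower.algebraMap_apply Γ(Y, V) (Y.residueField (p (genericPoint X)))
        (X.residueField (genericPoint X)),
      IsScalarTower.algebraMap_apply Γ(Y, V) (Y.residueField (p (genericPoint X)))
        (X.residueField (genericPoint X)) r'] at h1
    exact hinjRK ((algebraMap (Y.residueField (p (genericPoint X)))
      (X.residueField (genericPoint X))).injective h1)
  haveI frRK : IsFractionRing Γ(Y, V) (Y.residueField (p (genericPoint X))) :=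
    isFractionRing_sections hV (p (genericPoint X)) hdom hηV
  haveI frSL : IsFractionRing Γ(X, p ⁻¹ᵁ V) (X.residueField (genericPoint X)) :=
    isFractionRing_sections hU (genericPoint X) rfl hηU
  have hP := height_one_of_imm hV y (p (genericPoint X)) hy hdom himmY
  letI : Fintype ((hV.primeIdealOf ⟨y, hy⟩).asIdeal.primesOver Γ(X, p ⁻¹ᵁ V)) :=
    (Algebra.QuasiFinite.finite_primesOver (S := Γ(X, p ⁻¹ᵁ V))
      (hV.primeIdealOf ⟨y, hy⟩).asIdeal).fintype
  letI algRy : Algebra Γ(Y, V) (Y.presheaf.stalk y) := (Y.presheaf.germ V y hy).hom.toAlgebra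
  haveI : IsLocalization.AtPrime (Y.presheaf.stalk y) (hV.primeIdealOf ⟨y, hy⟩).asIdeal :=
    hV.isLocalization_stalk ⟨y, hy⟩
  let σ := IsLocalization.algEquiv (hV.primeIdealOf ⟨y, hy⟩).asIdeal.primeCompl
    (Localization.AtPrime (hV.primeIdealOf ⟨y, hy⟩).asIdeal) (Y.presheaf.stalk y)
  have hmkinj : Function.Injective
      (Ideal.Quotient.mk (RingHom.ker (Cyc.specMap y (p (genericPoint X)) h'))) := by
    rw [injective_iff_map_eq_zero]
    intro a ha
    rw [Ideal.Quotient.eq_zero_iff_mem, RingHom.mem_ker] at ha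
    exact (map_eq_zero_iff _ (specMap_injective_of_generic y _ h' hdom)).mp ha
  let e : Localization.AtPrime (hV.primeIdealOf ⟨y, hy⟩).asIdeal ≃+*
      Cyc.LocQuot y (p (genericPoint X)) h' :=
    σ.toRingEquiv.trans (RingEquiv.ofBijective
      (Ideal.Quotient.mk (RingHom.ker (Cyc.specMap y (p (genericPoint X)) h')))
      ⟨hmkinj, Ideal.Quotient.mk_surjective⟩)
  letI algAK : Algebra (Localization.AtPrime (hV.primeIdealOf ⟨y, hy⟩).asIdeal)
      (Y.residueField (p (genericPoint X))) :=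
    ((algebraMap (Cyc.LocQuot y (p (genericPoint X)) h')
      (Y.residueField (p (genericPoint X)))).comp e.toRingHom).toAlgebra
  haveI tw3 : IsScalarTower Γ(Y, V) (Localization.AtPrime (hV.primeIdealOf ⟨y, hy⟩).asIdeal)
      (Y.residueField (p (genericPoint X))) := by
    apply IsScalarTower.of_algebraMap_eq
    intro r
    have h1 : e (algebraMap Γ(Y, V) (Localization.AtPrime (hV.primeIdealOf ⟨y, hy⟩).asIdeal) r) =
        Ideal.Quotient.mk (RingHom.ker (Cyc.specMap y (p (genericPoint X)) h'))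
          ((Y.presheaf.germ V y hy).hom r) := by
      show Ideal.Quotient.mk _ (σ (algebraMap Γ(Y, V) _ r)) = _
      rw [σ.commutes]
      rfl
    show (Y.residue (p (genericPoint X))).hom
        ((Y.presheaf.germ V (p (genericPoint X)) hηV).hom r) =
      algebraMap (Cyc.LocQuot y (p (genericPoint X)) h') (Y.residueField (p (genericPoint X)))
        (e (algebraMap Γ(Y, V) (Localization.AtPrime (hV.primeIdealOf ⟨y, hy⟩).asIdeal) r))
    rw [h1]
    exact (specMap_germ y (p (genericPoint X)) h' V hy r).symm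
  have hxU : ∀ x : ↥(p ⁻¹' {y}), x.1 ∈ p ⁻¹ᵁ V := by
    intro x
    have h : p x.1 = y := x.2
    have h2 : p x.1 ∈ V := by rw [h]; exact hy
    exact h2
  let E : ↥(p ⁻¹' {y}) → (hV.primeIdealOf ⟨y, hy⟩).asIdeal.primesOver Γ(X, p ⁻¹ᵁ V) :=
    fun x => ⟨(hU.primeIdealOf ⟨x.1, hxU x⟩).asIdeal, (hU.primeIdealOf ⟨x.1, hxU x⟩).isPrime,
      Groth.Agent.Helper7.FinDeg.liesOver_chart' p hV hU le_rfl x.1 (hxU x) y hy x.2 halg⟩
  have hE : Function.Bijective E := by
    constructor
    · intro a b hab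
      have h1 : (hU.primeIdealOf ⟨a.1, hxU a⟩).asIdeal = (hU.primeIdealOf ⟨b.1, hxU b⟩).asIdeal :=
        congrArg Subtype.val hab
      have h2 := Groth.Agent.Helper7.FinDeg.primeIdealOf_injective hU (PrimeSpectrum.ext h1)
      have h3 : a.1 = b.1 := congrArg (fun z : ↥(p ⁻¹ᵁ V) => (z : X)) h2
      exact Subtype.ext h3
    · rintro ⟨Q, hQp, hQlo⟩
      obtain ⟨x, hx, hxQ⟩ := Groth.Agent.Helper7.FinDeg.exists_primeIdealOf_eq hU ⟨Q, hQp⟩
      have hQ' : (hU.primeIdealOf ⟨x, hx⟩).asIdeal = Q := congrArg PrimeSpectrum.asIdeal hxQ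
      have h1 := Groth.Agent.Lib.Helper4.DimIneq2.liesOver_chart p hV hU le_rfl x hx halg
      have h2 : (hV.primeIdealOf ⟨p x, hx⟩).asIdeal = (hV.primeIdealOf ⟨y, hy⟩).asIdeal := by
        rw [h1.over, hQlo.over, hQ']
      have h3 := Groth.Agent.Helper7.FinDeg.primeIdealOf_injective hV (PrimeSpectrum.ext h2)
      have hfx : p x = y := congrArg Subtype.val h3
      exact ⟨⟨x, hfx⟩, Subtype.ext hQ'⟩
  have key : ∀ b : Γ(X, p ⁻¹ᵁ V), b ≠ 0 →
      ∑ᶠ x : ↥(p ⁻¹' {y}), Cyc.ordAt x.1 (genericPoint X) (hsp x.1)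
          (algebraMap Γ(X, p ⁻¹ᵁ V) (X.residueField (genericPoint X)) b) *
          (p.residueDegree x.1 : ℤ) =
        Cyc.ordAt y (p (genericPoint X)) h' (Cyc.normGen p (genericPoint X)
          (algebraMap Γ(X, p ⁻¹ᵁ V) (X.residueField (genericPoint X)) b)) := by
    intro b hb
    have hN := ordFrac_norm_eq_sum hinj (hV.primeIdealOf ⟨y, hy⟩).asIdeal hP
      (Y.residueField (p (genericPoint X))) (X.residueField (genericPoint X)) b hb
    have hL : Cyc.ordAt y (p (genericPoint X)) h' (Cyc.normGen p (genericPoint X)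
          (algebraMap Γ(X, p ⁻¹ᵁ V) (X.residueField (genericPoint X)) b)) =
        CycAlg.ordFrac (Localization.AtPrime (hV.primeIdealOf ⟨y, hy⟩).asIdeal)
          (Y.residueField (p (genericPoint X)))
          (Algebra.norm (Y.residueField (p (genericPoint X)))
            (algebraMap Γ(X, p ⁻¹ᵁ V) (X.residueField (genericPoint X)) b)) :=
      cyc_ordFrac_ringEquiv' e (RingEquiv.refl (Y.residueField (p (genericPoint X))))
        (fun r => rfl) (Algebra.norm (Y.residueField (p (genericPoint X)))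
            (algebraMap Γ(X, p ⁻¹ᵁ V) (X.residueField (genericPoint X)) b))
    rw [hL, hN]
    have hFG : ∀ x : ↥(p ⁻¹' {y}), Cyc.ordAt x.1 (genericPoint X) (hsp x.1)
          (algebraMap Γ(X, p ⁻¹ᵁ V) (X.residueField (genericPoint X)) b) *
          (p.residueDegree x.1 : ℤ) =
        ((Module.length (Localization.AtPrime (E x).1) (Localization.AtPrime (E x).1 ⧸
          Ideal.span {algebraMap Γ(X, p ⁻¹ᵁ V) (Localization.AtPrime (E x).1) b})).toNat : ℤ) *
          ((E x).1.inertiaDeg Γ(Y, V) : ℤ) := by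
      intro x
      have h1 := ordAt_section hU x.1 (genericPoint X) (hxU x) (hsp x.1) rfl
        (himmX x.1 x.2) b hb
      have h2 := Groth.Agent.Helper7.FinDeg.inertiaDeg_chart p hV hU le_rfl x.1 (hxU x) halg
      have h3 : ((E x).1.inertiaDeg Γ(Y, V) : ℤ) = (p.residueDegree x.1 : ℤ) :=
        congrArg (fun n : ℕ => (n : ℤ)) h2
      rw [h3]
      exact congrArg (· * (p.residueDegree x.1 : ℤ)) h1
    rw [finsum_eq_of_bijective
      (g := fun Q : (hV.primeIdealOf ⟨y, hy⟩).asIdeal.primesOver Γ(X, p ⁻¹ᵁ V) =>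
        ((Module.length (Localization.AtPrime Q.1) (Localization.AtPrime Q.1 ⧸
          Ideal.span {algebraMap Γ(X, p ⁻¹ᵁ V) (Localization.AtPrime Q.1) b})).toNat : ℤ) *
          (Q.1.inertiaDeg Γ(Y, V) : ℤ)) E hE hFG,
      finsum_eq_sum_of_fintype]
  obtain ⟨a, s, ha, hs, hev⟩ := exists_frac hU ⟨genericPoint X, hηU⟩ f hf
  have ha0 : a ≠ 0 := fun h0 => ha (h0 ▸ zero_mem _)
  have hs0 : s ≠ 0 := fun h0 => hs (h0 ▸ zero_mem _)
  have hev' : f * algebraMap Γ(X, p ⁻¹ᵁ V) (X.residueField (genericPoint X)) s =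
      algebraMap Γ(X, p ⁻¹ᵁ V) (X.residueField (genericPoint X)) a := hev
  have hsL : algebraMap Γ(X, p ⁻¹ᵁ V) (X.residueField (genericPoint X)) s ≠ 0 := by
    intro h0
    exact hs0 ((IsFractionRing.injective Γ(X, p ⁻¹ᵁ V) (X.residueField (genericPoint X)))
      (h0.trans (map_zero _).symm))
  have hka := key a ha0
  have hks := key s hs0
  haveI : Finite ↥(p ⁻¹' {y}) := Finite.of_injective E hE.1
  have hΦ : ∑ᶠ x : ↥(p ⁻¹' {y}), Cyc.ordAt x.1 (genericPoint X) (hsp x.1)
        (f * algebraMap Γ(X, p ⁻¹ᵁ V) (X.residueField (genericPoint X)) s) *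
        (p.residueDegree x.1 : ℤ) =
      ∑ᶠ x : ↥(p ⁻¹' {y}), Cyc.ordAt x.1 (genericPoint X) (hsp x.1) f *
        (p.residueDegree x.1 : ℤ) +
      ∑ᶠ x : ↥(p ⁻¹' {y}), Cyc.ordAt x.1 (genericPoint X) (hsp x.1)
        (algebraMap Γ(X, p ⁻¹ᵁ V) (X.residueField (genericPoint X)) s) *
        (p.residueDegree x.1 : ℤ) := by
    rw [← finsum_add_distrib (Set.toFinite _) (Set.toFinite _)]
    apply finsum_congr
    intro x
    rw [ordAt_mul x.1 (genericPoint X) (hsp x.1) hf hsL, add_mul]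
  haveI : FaithfulSMul Γ(Y, V) Γ(X, p ⁻¹ᵁ V) :=
    (faithfulSMul_iff_algebraMap_injective Γ(Y, V) Γ(X, p ⁻¹ᵁ V)).mpr hinj
  haveI : Algebra.IsIntegral Γ(Y, V) Γ(X, p ⁻¹ᵁ V) := Algebra.IsIntegral.of_finite _ _
  haveI : FiniteDimensional (Y.residueField (p (genericPoint X)))
      (X.residueField (genericPoint X)) :=
    Module.Finite.of_isLocalization Γ(Y, V) Γ(X, p ⁻¹ᵁ V)
      (Rₚ := Y.residueField (p (genericPoint X))) (Sₚ := X.residueField (genericPoint X))
      (nonZeroDivisors Γ(Y, V))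
  have hΨ : Cyc.ordAt y (p (genericPoint X)) h' (Cyc.normGen p (genericPoint X)
        (f * algebraMap Γ(X, p ⁻¹ᵁ V) (X.residueField (genericPoint X)) s)) =
      Cyc.ordAt y (p (genericPoint X)) h' (Cyc.normGen p (genericPoint X) f) +
      Cyc.ordAt y (p (genericPoint X)) h' (Cyc.normGen p (genericPoint X)
        (algebraMap Γ(X, p ⁻¹ᵁ V) (X.residueField (genericPoint X)) s)) := by
    have hn : Cyc.normGen p (genericPoint X)
        (f * algebraMap Γ(X, p ⁻¹ᵁ V) (X.residueField (genericPoint X)) s) =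
        Cyc.normGen p (genericPoint X) f * Cyc.normGen p (genericPoint X)
          (algebraMap Γ(X, p ⁻¹ᵁ V) (X.residueField (genericPoint X)) s) :=
      map_mul (Algebra.norm (Y.residueField (p (genericPoint X)))) f _
    rw [hn]
    apply ordAt_mul
    · exact (Algebra.norm_ne_zero_iff (R := Y.residueField (p (genericPoint X)))).mpr hf
    · exact (Algebra.norm_ne_zero_iff (R := Y.residueField (p (genericPoint X)))).mpr hsL
  rw [hev'] at hΦ hΨ
  linarith

end Local

end Groth.Agent.Helper7.FinPush
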