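import Mathlib
import Groth.Prelude.Def_Cyc
import Groth.Agent.Lib.Helper7.FinPush.Geo
import Groth.Agent.Lib.Helper7.FibLN.Main

set_option linter.style.haveILetI false
set_option linter.unusedVariables false
set_option linter.unusedSectionVars false
set_option autoImplicit false
set_option backward.isDefEq.respectTransparency.types false
set_option synthInstance.maxHeartbeats 400000
set_option maxHeartbeats 1600000

namespace Groth.Agent.Helper7.FinPush

open CategoryTheory CategoryTheory.Limits AlgebraicGeometry IsLocalRing TopologicalSpace Opposite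

universe u

/-! helper7: proper pushforward of a principal divisor is the principal divisor of the norm -/

section Fibre

variable {X Y : Scheme.{u}}

theorem finite_fibre_of_no_spec [IsLocallyNoetherian X] (p : X ⟶ Y) [QuasiCompact p] (y : Y)
    (hno : ∀ x x' : X, p x = y → p x' = y → x ⤳ x' → x = x') : (p ⁻¹' {y}).Finite := by
  haveI : IsLocallyNoetherian (p.fiber y) :=
    Groth.Agent.Helper7.FibLN.isLocallyNoetherian_fiber p y
  haveI : IsNoetherian (p.fiber y) := {}
  haveI : NoetherianSpace ↥(p.fiber y) := inferInstance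
  have hfc := TopologicalSpace.NoetherianSpace.finite_irreducibleComponents (α := ↥(p.fiber y))
  have hfib : ∀ g : ↥(p.fiber y), p (p.fiberι y g) = y := by
    intro g
    have h1 : p.fiberι y g ∈ Set.range (p.fiberι y) := ⟨g, rfl⟩
    rw [p.range_fiberι y] at h1
    exact h1
  have hinj : Set.InjOn (fun z : ↥(p.fiber y) => irreducibleComponent z) Set.univ := by
    intro z _ z' _ hzz
    have hzz' : irreducibleComponent z = irreducibleComponent z' := hzz
    obtain ⟨g, hg⟩ := QuasiSober.sober (isIrreducible_irreducibleComponent (x := z))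
      isClosed_irreducibleComponent
    have h1 : g ⤳ z := by
      rw [specializes_iff_mem_closure, hg.def]
      exact mem_irreducibleComponent
    have h2 : g ⤳ z' := by
      rw [specializes_iff_mem_closure, hg.def, hzz']
      exact mem_irreducibleComponent
    have key : ∀ w : ↥(p.fiber y), g ⤳ w → g = w := by
      intro w hw
      have h3 : p.fiberι y g ⤳ p.fiberι y w := hw.map (p.fiberι y).continuous
      have h4 := hno _ _ (hfib g) (hfib w) h3
      exact (p.fiberι y).isEmbedding.injective h4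
    rw [← key z h1, ← key z' h2]
  have hsub : (fun z : ↥(p.fiber y) => irreducibleComponent z) '' Set.univ ⊆
      irreducibleComponents ↥(p.fiber y) := by
    rintro _ ⟨z, -, rfl⟩
    exact irreducibleComponent_mem_irreducibleComponents z
  have h5 : (Set.univ : Set ↥(p.fiber y)).Finite :=
    Set.Finite.of_finite_image (hfc.subset hsub) hinj
  haveI : Finite ↥(p.fiber y) := Set.finite_univ_iff.mp h5
  exact (p.fiberHomeo y).finite_iff.mp inferInstance

theorem appLE_finite_congr (p : X ⟶ Y) {O₁ O₂ : Y.Opens} {O₁' O₂' : X.Opens} (h : O₁ = O₂)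
    (h' : O₁' = O₂') (e₁ : O₁' ≤ p ⁻¹ᵁ O₁) (e₂ : O₂' ≤ p ⁻¹ᵁ O₂) :
    (p.appLE O₁ O₁' e₁).hom.Finite → (p.appLE O₂ O₂' e₂).hom.Finite := by
  subst h h'
  exact id

theorem exists_finite_chart (p : X ⟶ Y) [IsProper p] (y : Y) (hfin : (p ⁻¹' {y}).Finite) :
    ∃ V : Y.Opens, IsAffineOpen V ∧ y ∈ V ∧ IsAffineOpen (p ⁻¹ᵁ V) ∧
      (p.appLE V (p ⁻¹ᵁ V) le_rfl).hom.Finite := by
  obtain ⟨V, hyV, hVfin⟩ := exists_isFinite_morphismRestrict_of_finite_preimage_singleton p y hfin
  obtain ⟨V', hV', hyV', hV'V⟩ := Opens.isBasis_iff_nbhd.mp Y.isBasis_affineOpens hyV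
  have hV'' : IsAffineOpen (V.ι ⁻¹ᵁ V') :=
    hV'.preimage_of_isOpenImmersion V.ι (by rw [Scheme.Opens.opensRange_ι]; exact hV'V)
  haveI : IsAffineHom (p ∣_ V) := inferInstance
  have h2 : IsAffineOpen ((p ⁻¹ᵁ V).ι ''ᵁ ((p ∣_ V) ⁻¹ᵁ (V.ι ⁻¹ᵁ V'))) :=
    (hV''.preimage (p ∣_ V)).image_of_isOpenImmersion _
  have himg : V.ι ''ᵁ (V.ι ⁻¹ᵁ V') = V' := by
    rw [Scheme.Hom.image_preimage_eq_opensRange_inf, Scheme.Opens.opensRange_ι,
      inf_eq_right.mpr hV'V]
  have himg' : (p ⁻¹ᵁ V).ι ''ᵁ ((p ∣_ V) ⁻¹ᵁ (V.ι ⁻¹ᵁ V')) = p ⁻¹ᵁ V' := by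
    rw [image_morphismRestrict_preimage, himg]
  rw [himg'] at h2
  have h3 := (p ∣_ V).finite_app (V.ι ⁻¹ᵁ V') hV''
  rw [morphismRestrict_app'] at h3
  exact ⟨V', hV', hyV', h2, appLE_finite_congr p himg himg' _ le_rfl h3⟩

end Fibre

section Main

/-- pushforward of a principal divisor along a proper dominant generically finite morphism of
integral schemes is the principal divisor of the norm -/
theorem map_divFun_eq_divFun_norm (X Y : Scheme.{u}) [IsIntegral X] [IsIntegral Y]
    (δX : X → ℤ) (δY : Y → ℤ) (hX : Cyc.IsSetup X δX) (hY : Cyc.IsSetup Y δY) (p : X ⟶ Y)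
    [IsProper p] (hδ : Cyc.DeltaCompat p δX δY) (hdom : p (genericPoint X) = genericPoint Y)
    (hn : δX (genericPoint X) = δY (genericPoint Y)) (f : X.residueField (genericPoint X))
    (hf : f ≠ 0) (α : AlgebraicCycle X ℤ) (hα : ⇑α = Cyc.divFun δX (genericPoint X) f) :
    ⇑(AlgebraicCycle.map p δX δY α) =
      Cyc.divFun δY (p (genericPoint X)) (Cyc.normGen p (genericPoint X) f) := by
  classical
  haveI : IsLocallyNoetherian X := hX.1
  haveI : IsLocallyNoetherian Y := hY.1
  have hdX := hX.2.2
  have hdY := hY.2.2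
  have hsp : ∀ x : X, genericPoint X ⤳ x := genericPoint_specializes
  funext y
  change (∑ᶠ x ∈ p ⁻¹' {y}, α x * ((AlgebraicCycle.mapCoeff p δX δY x : ℕ) : ℤ)) = _
  have h' : p (genericPoint X) ⤳ y := by
    rw [hdom]
    exact genericPoint_specializes y
  by_cases hc : δY y + 1 = δY (p (genericPoint X))
  · have hη : δX (genericPoint X) = δY y + 1 := by
      rw [hn, ← hdom]
      exact hc.symm
    have hfib : ∀ x : X, p x = y → δX x = δY y ∧ x ≠ genericPoint X := by
      intro x hx
      have hne : x ≠ genericPoint X := by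
        intro h0
        rw [h0] at hx
        rw [hx] at hc
        omega
      obtain ⟨n, -, hn'⟩ := hδ x
      rw [hx] at hn'
      have h1 := (hdX _ _ (hsp x) (Ne.symm hne)).1
      refine ⟨?_, hne⟩
      omega
    have himmX : ∀ x : X, p x = y → ∀ ζ : X, genericPoint X ⤳ ζ → ζ ⤳ x →
        ζ = genericPoint X ∨ ζ = x := by
      intro x hx ζ h1 h2
      by_contra hcon
      push Not at hcon
      have h3 := (hdX _ _ h1 (Ne.symm hcon.1)).1
      have h4 := (hdX _ _ h2 hcon.2).1
      have h5 := (hfib x hx).1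
      omega
    have himmY : ∀ ζ : Y, p (genericPoint X) ⤳ ζ → ζ ⤳ y →
        ζ = p (genericPoint X) ∨ ζ = y := by
      intro ζ h1 h2
      by_contra hcon
      push Not at hcon
      have h3 := (hdY _ _ h1 (Ne.symm hcon.1)).1
      have h4 := (hdY _ _ h2 hcon.2).1
      omega
    have hno : ∀ x x' : X, p x = y → p x' = y → x ⤳ x' → x = x' := by
      intro x x' hx hx' hs
      by_contra hne
      have h1 := (hdX _ _ hs hne).1
      have h2 := (hfib x hx).1
      have h3 := (hfib x' hx').1
      omega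
    have hfinite := finite_fibre_of_no_spec p y hno
    obtain ⟨V, hV, hyV, hU, hfin⟩ := exists_finite_chart p y hfinite
    have hLF := local_formula p hdom hV hU hfin y hyV hsp h' himmY himmX f hf
    have hR : Cyc.divFun δY (p (genericPoint X)) (Cyc.normGen p (genericPoint X) f) y =
        Cyc.ordAt y (p (genericPoint X)) h' (Cyc.normGen p (genericPoint X) f) := by
      unfold Cyc.divFun
      rw [dif_pos ⟨h', hc⟩]
    rw [hR, ← hLF, ← finsum_set_coe_eq_finsum_mem]
    apply finsum_congr
    intro x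
    have hx : p x.1 = y := x.2
    have h1 : α x.1 = Cyc.ordAt x.1 (genericPoint X) (hsp x.1) f := by
      rw [hα]
      unfold Cyc.divFun
      have h0 := (hfib x.1 hx).1
      rw [dif_pos ⟨hsp x.1, by omega⟩]
    have h2 : AlgebraicCycle.mapCoeff p δX δY x.1 = p.residueDegree x.1 := by
      unfold AlgebraicCycle.mapCoeff
      rw [if_pos ((hfib x.1 hx).1.trans (congrArg δY hx.symm))]
    rw [h1, h2]
  · have hR : Cyc.divFun δY (p (genericPoint X)) (Cyc.normGen p (genericPoint X) f) y = 0 := by
      unfold Cyc.divFun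
      rw [dif_neg (fun h => hc h.2)]
    rw [hR]
    apply finsum_mem_eq_zero_of_forall_eq_zero
    intro x hx
    have hpx : p x = y := hx
    rw [hα]
    unfold Cyc.divFun AlgebraicCycle.mapCoeff
    by_cases h1 : genericPoint X ⤳ x ∧ δX x + 1 = δX (genericPoint X)
    · by_cases h2 : δX x = δY (p x)
      · exfalso
        apply hc
        rw [← hpx, ← h2, h1.2, hn, hdom]
      · rw [if_neg h2]
        simp
    · rw [dif_neg h1, zero_mul]

end Main

end Groth.Agent.Helper7.FinPush
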